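import Mathlib.GroupTheory.Commutator.Basic
import Mathlib.Tactic.Group
import Cfsg.Agent.SchurMult.Multiplier

/-!
Small lemmas on central values of powers of products, and sections over perfect groups with trivial
multiplier.
-/

set_option autoImplicit false

namespace CfsgLib.J4Mult

variable {G : Type*} [Group G]

theorem conj_inv_pow (a g : G) (n : ℕ) : (g⁻¹ * a * g) ^ n = g⁻¹ * a ^ n * g := by
  simpa using conj_pow (a := g⁻¹) (b := a) (i := n)

theorem pow_swap {a b z : G} (hz : z ∈ Subgroup.center G) {n : ℕ} (h : (a * b) ^ n = z) :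
    (b * a) ^ n = z := by
  rw [show b * a = a⁻¹ * (a * b) * a by group, conj_inv_pow, h,
    mul_assoc, ← Subgroup.mem_center_iff.1 hz a, inv_mul_cancel_left]

/-- a product of two elements, the second an involution, the first squaring to a central element -/
theorem dihedral {p r z ζ : G} {n : ℕ} (hr : r * r = 1) (hp : p * p = z)
    (hz : z ∈ Subgroup.center G) (hζ : ζ ∈ Subgroup.center G) (h : (p * r) ^ n = ζ) :
    z ^ n = ζ ^ 2 := by
  have h1 := pow_swap hζ h
  have hpi : p⁻¹ = p * z⁻¹ := by rw [← hp]; group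
  have hri : r⁻¹ = r := inv_eq_of_mul_eq_one_right hr
  have h2 : (p * r)⁻¹ = r * p * z⁻¹ := by rw [mul_inv_rev, hpi, hri, mul_assoc]
  have hc : Commute (r * p) z⁻¹ :=
    (show Commute (r * p) z from Subgroup.mem_center_iff.1 hz _).inv_right
  have h3 : ζ⁻¹ = ζ * (z ^ n)⁻¹ := by
    conv_lhs => rw [← h, ← inv_pow, h2, hc.mul_pow, h1, inv_pow]
  have h4 : z ^ n = (ζ * (z ^ n)⁻¹)⁻¹ * ζ := by group
  rw [h4, ← h3, inv_inv, pow_two]

/-- an element inverting the first factor and centralising the second one -/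
theorem inverted {y t z0 z g : G} (ht : t * t = z0) (hz0 : z0 ∈ Subgroup.center G)
    (hz : z ∈ Subgroup.center G) (h : (y * t) ^ 3 = z) (hy : g⁻¹ * y * g = y⁻¹)
    (hg : g⁻¹ * t * g = t) : z ^ 2 = z0 ^ 3 := by
  have h1 : (y⁻¹ * t) ^ 3 = z := by
    rw [show y⁻¹ * t = g⁻¹ * (y * t) * g by
      rw [show g⁻¹ * (y * t) * g = (g⁻¹ * y * g) * (g⁻¹ * t * g) by group, hy, hg],
      conj_inv_pow, h, mul_assoc, ← Subgroup.mem_center_iff.1 hz g, inv_mul_cancel_left]
  have h2 := pow_swap hz h1
  have hti : t⁻¹ = z0⁻¹ * t := by rw [← ht]; group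
  have hc : Commute z0⁻¹ (t * y⁻¹) :=
    (show Commute z0 (t * y⁻¹) from (Subgroup.mem_center_iff.1 hz0 _).symm).inv_left
  have h3 : z⁻¹ = (z0 ^ 3)⁻¹ * z := by
    conv_lhs => rw [← h, ← inv_pow, mul_inv_rev, hti, mul_assoc, hc.mul_pow, h2, inv_pow]
  have h4 : z0 ^ 3 = z * ((z0 ^ 3)⁻¹ * z)⁻¹ := by group
  rw [h4, ← h3, inv_inv, pow_two]

/-- sections over a perfect group with trivial multiplier -/
theorem exists_section {Q : Type} [Group Q] [Finite Q] (hm : Cfsg.HasCyclicSchurMultiplier Q 1)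
    (hperf : commutator Q = ⊤) {E : Type} [Group E] (τ : E →* Q) (hs : Function.Surjective τ)
    (hc : τ.ker ≤ Subgroup.center E) : ∃ S : Q →* E, ∀ q, τ (S q) = q := by
  have hker := CfsgLib.SchurMult.ker_inf_commutator_eq_bot hm hs hc
  have hsurj : Function.Surjective (τ.comp (commutator E).subtype) := by
    intro q
    have h : q ∈ (commutator E).map τ := by
      rw [commutator_def, Subgroup.map_commutator, Subgroup.map_top_of_surjective τ hs,
        ← commutator_def, hperf]
      exact Subgroup.mem_top q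
    obtain ⟨e, he, rfl⟩ := h
    exact ⟨⟨e, he⟩, rfl⟩
  have hinj : Function.Injective (τ.comp (commutator E).subtype) := by
    rw [injective_iff_map_eq_one]
    intro a ha
    refine Subtype.ext ?_
    have : (a : E) ∈ τ.ker ⊓ commutator E := ⟨ha, a.2⟩
    rw [hker, Subgroup.mem_bot] at this
    exact this
  let e := MulEquiv.ofBijective _ ⟨hinj, hsurj⟩
  exact ⟨(commutator E).subtype.comp e.symm.toMonoidHom, fun q => e.apply_symm_apply q⟩

end CfsgLib.J4Mult
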