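import Cfsg.Agent.J4Mult.Main
import Cfsg.Agent.J4Rep112.Hom

/-!
The two identities of the presented fourth Janko group, checked in the representation of degree 112.
-/

set_option autoImplicit false
set_option maxRecDepth 100000
set_option Elab.async false

namespace CfsgLib.J4Mult

open Cfsg CfsgLib.CosetEnum CfsgLib.J4M24 CfsgLib.J4Rep112

/-- the first word of the identities -/
def id1 : FreeGroup Spor.J4.Gen :=
  (Spor.J4.t * Spor.J4.x * ((gword (lets Spor.J4.x Spor.J4.y) [3, 0, 3])⁻¹ * Spor.J4.x *
    gword (lets Spor.J4.x Spor.J4.y) [3, 0, 3])) ^ 31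

/-- the second word of the identities -/
def id2 : FreeGroup Spor.J4.Gen :=
  (prodH Spor.J4.x Spor.J4.y Spor.J4.t * ((conjK Spor.J4.x Spor.J4.y Spor.J4.t)⁻¹ * Spor.J4.x *
    conjK Spor.J4.x Spor.J4.y Spor.J4.t)) ^ 5

theorem id1_ok : ((encWord enc J4Rep112.iv id1).all (fun c => c.blt 6) &&
    fixesBasis (encWord enc J4Rep112.iv id1)) = true := by
  decide +kernel

theorem id2_ok : ((encWord enc J4Rep112.iv id2).all (fun c => c.blt 6) &&
    fixesBasis (encWord enc J4Rep112.iv id2)) = true := by
  decide +kernel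

theorem rep_eq_one (r : FreeGroup Spor.J4.Gen)
    (h : ((encWord enc J4Rep112.iv r).all (fun c => c.blt 6) &&
      fixesBasis (encWord enc J4Rep112.iv r)) = true) :
    J4Rep112.rep (PresentedGroup.mk _ r) = 1 := by
  rw [← MonoidHom.comp_apply, map_eq_gword enc J4Rep112.iv (J4Rep112.rep.comp (PresentedGroup.mk _)) val
    (fun a => PresentedGroup.toGroup.of J4Rep112.rel_ok)
    (fun a => by
      rw [show (J4Rep112.rep.comp (PresentedGroup.mk _)) (FreeGroup.of a) = val (enc a) from
        PresentedGroup.toGroup.of J4Rep112.rel_ok]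
      exact (val_iv (by cases a <;> decide)).symm) r]
  rw [Bool.and_eq_true, List.all_eq_true] at h
  simp only [Nat.blt, Nat.ble_eq] at h
  refine Equiv.ext fun v => Subtype.ext ?_
  rw [gword_val _ h.1, act_eq_self h.2 v.2]
  rfl

theorem identities [IsSimpleGroup Spor.J4] : Identities := by
  have hinj : Function.Injective J4Rep112.rep := by
    rw [← MonoidHom.ker_eq_bot_iff]
    refine (Subgroup.Normal.eq_bot_or_eq_top inferInstance).resolve_right fun h => rep_x_ne_one ?_
    exact MonoidHom.mem_ker.1 (h ▸ Subgroup.mem_top _)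
  constructor
  · refine hinj ((?_ : _ = J4Rep112.rep (PresentedGroup.mk _ id1)).trans
      ((rep_eq_one id1 id1_ok).trans (map_one _).symm))
    simp only [id1, map_pow, map_mul, map_inv, map_gword_lets]
    rfl
  · refine hinj ((?_ : _ = J4Rep112.rep (PresentedGroup.mk _ id2)).trans
      ((rep_eq_one id2 id2_ok).trans (map_one _).symm))
    simp only [id2, map_pow, map_mul, map_inv, map_prodH, map_conjK]
    rfl

theorem multiplier_of_simple [Finite Spor.J4] [IsSimpleGroup Spor.J4] :
    HasCyclicSchurMultiplier Spor.J4 1 := multiplier_of identities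

end CfsgLib.J4Mult
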