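import Cfsg.Agent.J4M24.Iso
import Cfsg.Agent.SchurMult.Multiplier

/-!
Words on the generators of `M24` used for the multiplier of the presented fourth Janko group.
-/

set_option autoImplicit false
set_option maxRecDepth 100000

namespace CfsgLib.J4Mult

open Cfsg CfsgLib.CosetEnum CfsgLib.J4M24

/-- the second word commuting with the third generator -/
def wW : List ℕ := [2, 0, 2, 0, 3, 0, 3, 0, 2, 0, 2, 0, 2]

/-- the first conjugating word -/
def wU : List ℕ := [2, 0, 3, 0, 2, 0, 3, 0]

/-- the second conjugating word -/
def wV : List ℕ := [0, 2, 0, 2, 0, 2, 2, 0, 2, 0, 2, 0, 2, 0, 2, 0, 2, 0, 2, 2]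

/-- the element of order four in the last relator -/
def wA : List ℕ := [2, 0, 2, 0, 2, 0, 2, 2, 0, 2, 0, 2, 0, 2, 2, 0, 2, 0, 2, 0, 2]

/-- a word on the two centralising elements, as letters -/
def cword (k : List Bool) : List ℕ := k.flatMap fun b => bif b then wW else [0]

/-- first word of a collision -/
def k1 : List Bool := [true, false, true, false, true, false, true, false, true, false, true, true,
  false, true, false, true, true, false]

/-- second word of a collision -/
def k2 : List Bool := [false, true, true, false, true, true, false, true, false, true, false, true,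
  true, true, false, true, false, true]

/-- the word of `wA` on the centralising elements -/
def kA : List Bool := [false, true, true, false, true, true, false, true, false, true, false, true,
  false, true, false, true, true, true, false, true, true, false, true, true, true, false, true,
  false, true]

/-- the element inverting the second generator -/
def wG : List ℕ := wInv wU ++ cword [true, true] ++ wU

/-- the equalities in `M24` that are used -/
def eqs : List (List ℕ × List ℕ) :=
  [(cword k1, cword k2), (wA, cword kA), (wA ++ wA ++ wA ++ wA, []),
    (wInv wG ++ [2] ++ wG, [3])]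

theorem eqs_ok : (eqs.all fun p => p.1.all (fun c => c.blt 4) && p.2.all (fun c => c.blt 4) &&
    wTab p.1 == wTab p.2) = true := by
  decide +kernel

theorem eq_gl {v w : List ℕ} (h : (v, w) ∈ eqs) : gword gl v = gword gl w := by
  have h' := List.all_eq_true.1 eqs_ok _ h
  simp only [Bool.and_eq_true, List.all_eq_true, Nat.blt, Nat.ble_eq, beq_iff_eq] at h'
  refine phi_injective (Subtype.ext ?_)
  rw [phi_gword, phi_gword]
  refine toTab_injective ?_
  rw [toTab_gword v h'.1.1, toTab_gword w h'.1.2, h'.2]

theorem P_perfect : commutator P = ⊤ := by
  rw [← Abelianization.ker_of, hom_comm_eq_one (Abelianization.of (G := P))]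
  exact MonoidHom.ker_one

theorem P_multiplier : Cfsg.HasCyclicSchurMultiplier P 1 :=
  CfsgLib.SchurMult.hasSchurMultiplier_congr_left equivM24.symm Mathieu.Multiplier.m24_trivial

theorem P_finite : Finite P := Finite.of_equiv _ equivM24.symm.toEquiv

end CfsgLib.J4Mult
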