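import Cfsg.Agent.J4Mult.Algebra
import Cfsg.Agent.J4Mult.Words
import Cfsg.Agent.SchurMult.Multiplier

/-!
Trivial multiplier of the presented fourth Janko group, from finiteness and two identities.
-/

set_option autoImplicit false
set_option maxRecDepth 100000

open scoped commutatorElement

namespace CfsgLib.J4Mult

open Cfsg CfsgLib.CosetEnum CfsgLib.J4M24

/-- the first relator mixing the generators -/
def rel11 {G : Type*} [Group G] (x y t : G) : G :=
  (y * ((gword (lets x y) wU)⁻¹ * t * gword (lets x y) wU)) ^ 3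

/-- the first involution of the last relator -/
def conjV {G : Type*} [Group G] (x y t : G) : G :=
  (gword (lets x y) wV)⁻¹ * t * gword (lets x y) wV

/-- the product whose square is the last relator -/
def prodH {G : Type*} [Group G] (x y t : G) : G :=
  gword (lets x y) wA * t * conjV x y t

/-- the last relator -/
def rel12 {G : Type*} [Group G] (x y t : G) : G := prodH x y t ^ 2

/-- the conjugating element of the second identity -/
def conjK {G : Type*} [Group G] (x y t : G) : G := y⁻¹ * x * t * y⁻¹ * t * y * t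

theorem map_conjK {G H : Type*} [Group G] [Group H] (f : G →* H) (x y t : G) :
    f (conjK x y t) = conjK (f x) (f y) (f t) := by
  simp only [conjK, map_mul, map_inv]

/-- commutation with the second centralising word -/
def relW {G : Type*} [Group G] (x y t : G) : G :=
  t⁻¹ * (gword (lets x y) wW)⁻¹ * t * gword (lets x y) wW

/-- the relations that contain the third generator -/
def tRels {G : Type*} [Group G] (x y t : G) : List G :=
  [t ^ 2, relW x y t, t⁻¹ * x⁻¹ * t * x, rel11 x y t, rel12 x y t]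

theorem tRels_mem : ((tRels Spor.J4.x Spor.J4.y Spor.J4.t).all fun r =>
    Spor.J4.extra.any fun s => s.toWord == r.toWord) = true := by
  decide +kernel

theorem rels_cover : (Spor.J4.extra.all fun s =>
    ((Tab.relWords.map fun w => gword (lets Spor.J4.x Spor.J4.y) w) ++
      tRels Spor.J4.x Spor.J4.y Spor.J4.t).any fun r => s.toWord == r.toWord) = true := by
  decide +kernel

/-- generators of `J4` -/
abbrev ox : Spor.J4 := PresentedGroup.of Spor.J4.Gen.x
/-- generators of `J4` -/
abbrev oy : Spor.J4 := PresentedGroup.of Spor.J4.Gen.y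
/-- generators of `J4` -/
abbrev ot : Spor.J4 := PresentedGroup.of Spor.J4.Gen.t

theorem map_rel11 {G H : Type*} [Group G] [Group H] (f : G →* H) (x y t : G) :
    f (rel11 x y t) = rel11 (f x) (f y) (f t) := by
  simp only [rel11, map_pow, map_mul, map_inv, map_gword_lets]

theorem map_prodH {G H : Type*} [Group G] [Group H] (f : G →* H) (x y t : G) :
    f (prodH x y t) = prodH (f x) (f y) (f t) := by
  simp only [prodH, conjV, map_mul, map_inv, map_gword_lets]

theorem map_rel12 {G H : Type*} [Group G] [Group H] (f : G →* H) (x y t : G) :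
    f (rel12 x y t) = rel12 (f x) (f y) (f t) := by
  rw [rel12, map_pow, map_prodH, rel12]

theorem map_relW {G H : Type*} [Group G] [Group H] (f : G →* H) (x y t : G) :
    f (relW x y t) = relW (f x) (f y) (f t) := by
  simp only [relW, map_mul, map_inv, map_gword_lets]

theorem map_tRels {G H : Type*} [Group G] [Group H] (f : G →* H) (x y t : G) :
    (tRels x y t).map f = tRels (f x) (f y) (f t) := by
  simp only [tRels, List.map_cons, List.map_nil, map_pow, map_mul, map_inv, map_rel11, map_rel12,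
    map_relW]

theorem rels_hold : ∀ r ∈ tRels ox oy ot, r = 1 := by
  intro r hr
  rw [show tRels ox oy ot = (tRels Spor.J4.x Spor.J4.y Spor.J4.t).map
    (PresentedGroup.mk (Spor.coxRelators Spor.J4.edges ∪ {r | r ∈ Spor.J4.extra})) from
    (map_tRels _ _ _ _).symm, List.mem_map] at hr
  obtain ⟨q, hq, rfl⟩ := hr
  obtain ⟨s, hs, he⟩ := List.any_eq_true.1 (List.all_eq_true.1 tRels_mem q hq)
  rw [← FreeGroup.toWord_injective (eq_of_beq he)]
  exact PresentedGroup.one_of_mem (Or.inr hs)

/-- a homomorphism out of `J4` from the relations -/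
theorem exists_hom {H : Type*} [Group H] (a b c : H)
    (h1 : ∀ w ∈ Tab.relWords, gword (lets a b) w = 1) (h2 : ∀ r ∈ tRels a b c, r = 1) :
    ∃ f : Spor.J4 →* H, f ox = a ∧ f oy = b ∧ f ot = c := by
  let g : Spor.J4.Gen → H := fun | .x => a | .y => b | .t => c
  have hrel : ∀ r ∈ Spor.coxRelators Spor.J4.edges ∪ {r | r ∈ Spor.J4.extra},
      FreeGroup.lift g r = 1 := by
    intro r hr
    rw [CfsgLib.J4Rep112.edges_empty, Set.empty_union, Set.mem_ofPred_eq] at hr
    obtain ⟨q, hq, he⟩ := List.any_eq_true.1 (List.all_eq_true.1 rels_cover r hr)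
    rw [FreeGroup.toWord_injective (eq_of_beq he)]
    rcases List.mem_append.1 hq with hq | hq
    · obtain ⟨w, hw, rfl⟩ := List.mem_map.1 hq
      rw [map_gword_lets, FreeGroup.lift_apply_of, FreeGroup.lift_apply_of]
      exact h1 w hw
    · refine h2 _ ?_
      have := List.mem_map_of_mem (f := FreeGroup.lift g) hq
      rwa [map_tRels, FreeGroup.lift_apply_of, FreeGroup.lift_apply_of,
        FreeGroup.lift_apply_of] at this
  exact ⟨PresentedGroup.toGroup hrel, PresentedGroup.toGroup.of _, PresentedGroup.toGroup.of _,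
    PresentedGroup.toGroup.of _⟩

/-- two identities in `J4` -/
def Identities : Prop :=
  (ot * ox * ((gword (lets ox oy) [3, 0, 3])⁻¹ * ox * gword (lets ox oy) [3, 0, 3])) ^ 31 = 1 ∧
    (prodH ox oy ot * ((conjK ox oy ot)⁻¹ * ox * conjK ox oy ot)) ^ 5 = 1

theorem incl_px : incl px = ox := PresentedGroup.toGroup.of _

theorem incl_py : incl py = oy := PresentedGroup.toGroup.of _

theorem J4_perfect : commutator Spor.J4 = ⊤ := by
  rw [← Abelianization.ker_of]
  suffices h : (Abelianization.of : Spor.J4 →* Abelianization Spor.J4) = 1 by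
    rw [h]
    exact MonoidHom.ker_one
  refine PresentedGroup.ext fun a => ?_
  have hx : Abelianization.of ox = 1 := by
    rw [← incl_px]
    exact DFunLike.congr_fun (hom_comm_eq_one ((Abelianization.of (G := Spor.J4)).comp incl)) px
  have hy : Abelianization.of oy = 1 := by
    rw [← incl_py]
    exact DFunLike.congr_fun (hom_comm_eq_one ((Abelianization.of (G := Spor.J4)).comp incl)) py
  cases a with
  | x => exact hx
  | y => exact hy
  | t =>
    show Abelianization.of ot = 1
    have e2 := congrArg (Abelianization.of (G := Spor.J4)) (rels_hold (ot ^ 2) (by simp [tRels]))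
    have e3 := congrArg (Abelianization.of (G := Spor.J4)) (rels_hold (rel11 ox oy ot) (by simp [tRels]))
    rw [map_pow, map_one] at e2
    rw [map_rel11, map_one, rel11, hy, one_mul, mul_assoc, mul_comm (Abelianization.of ot) _,
      inv_mul_cancel_left, pow_succ, e2, one_mul] at e3
    exact e3

/-- the value of the commutators along a word -/
def par {G : Type*} [Group G] (a b : G) (k : List Bool) : G :=
  a ^ k.count false * b ^ k.count true

theorem conj_cword {G : Type*} [Group G] (X Y T a b : G) (ha : a ∈ Subgroup.center G)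
    (hb : b ∈ Subgroup.center G) (hX : X⁻¹ * T * X = T * a)
    (hW : (gword (lets X Y) wW)⁻¹ * T * gword (lets X Y) wW = T * b) : ∀ k : List Bool,
    (gword (lets X Y) (cword k))⁻¹ * T * gword (lets X Y) (cword k) = T * par a b k := by
  intro k
  induction k with
  | nil => simp [cword, gword, par]
  | cons g k ih =>
    have hc : ∀ c ∈ Subgroup.center G, ∀ K : G, K⁻¹ * (T * c) * K = K⁻¹ * T * K * c := by
      intro c hc K
      rw [mul_assoc, mul_assoc T, ← Subgroup.mem_center_iff.1 hc K]
      simp only [mul_assoc]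
    have e : gword (lets X Y) (cword (g :: k)) =
        gword (lets X Y) (bif g then wW else [0]) * gword (lets X Y) (cword k) := by
      rw [cword, List.flatMap_cons, gword_append]
      rfl
    cases g with
    | false =>
      have e0 : gword (lets X Y) [0] = X := by simp [gword, lets, signedVal]
      rw [e, cond_false, e0, mul_inv_rev,
        show ∀ K : G, K⁻¹ * X⁻¹ * T * (X * K) = K⁻¹ * (X⁻¹ * T * X) * K by intros; group, hX,
        hc a ha, ih, par, par, List.count_cons_self, List.count_cons_of_ne (by decide), pow_succ']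
      rw [mul_assoc T, Subgroup.mem_center_iff.1 ha, mul_assoc a]
    | true =>
      rw [e, cond_true, mul_inv_rev,
        show ∀ K : G, K⁻¹ * (gword (lets X Y) wW)⁻¹ * T * (gword (lets X Y) wW * K) =
          K⁻¹ * ((gword (lets X Y) wW)⁻¹ * T * gword (lets X Y) wW) * K by intros; group, hW,
        hc b hb, ih, par, par, List.count_cons_self, List.count_cons_of_ne (by decide), pow_succ]
      simp only [mul_assoc]

variable {Γ : Type} [Group Γ] [Finite Γ]

theorem ker_eq_bot (hI : Identities) (σ : Γ →* Spor.J4) (hσ : IsStemExtension σ) : σ.ker = ⊥ := by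
  haveI := P_finite
  obtain ⟨hsurj, hcen, hcomm⟩ := hσ
  have hmem : ∀ {g : Γ}, σ g = 1 → g ∈ Subgroup.center Γ := fun h => hcen h
  -- the lift of `M24`
  let τ : ↥(incl.range.comap σ) →* P :=
    (MonoidHom.ofInjective incl_injective).symm.toMonoidHom.comp (σ.subgroupComap incl.range)
  have hτs : Function.Surjective τ :=
    (MonoidHom.ofInjective incl_injective).symm.surjective.comp fun q => by
      obtain ⟨g, hg⟩ := hsurj q.1
      exact ⟨⟨g, show σ g ∈ incl.range from hg ▸ q.2⟩, Subtype.ext hg⟩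
  have hτ : ∀ e, incl (τ e) = σ e := fun e =>
    congrArg Subtype.val ((MonoidHom.ofInjective incl_injective).apply_symm_apply
      (σ.subgroupComap incl.range e))
  have hτc : τ.ker ≤ Subgroup.center ↥(incl.range.comap σ) := by
    intro e he
    have : σ e = 1 := by rw [← hτ e, he, map_one]
    rw [Subgroup.mem_center_iff]
    exact fun g => Subtype.ext (Subgroup.mem_center_iff.1 (hmem this) g)
  obtain ⟨S0, hS0⟩ := exists_section P_multiplier P_perfect τ hτs hτc
  let S : P →* Γ := (incl.range.comap σ).subtype.comp S0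
  have hS : ∀ p, σ (S p) = incl p := fun p => by
    rw [← congrArg incl (hS0 p), hτ]
    rfl
  have hSw : ∀ w, S (gword gl w) = gword (lets (S px) (S py)) w := fun w => map_gword_lets S px py w
  set X : Γ := S px with hXdef
  set Y : Γ := S py with hYdef
  have hσX : σ X = ox := (hS px).trans incl_px
  have hσY : σ Y = oy := (hS py).trans incl_py
  have hσw : ∀ w, σ (gword (lets X Y) w) = gword (lets ox oy) w := fun w => by
    rw [map_gword_lets, hσX, hσY]
  have hXY : ∀ w ∈ Tab.relWords, gword (lets X Y) w = 1 := fun w hw => by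
    rw [← hSw, show gword gl w = 1 from gword_rel hw, map_one]
  have hXX : X * X = 1 := by
    have := hXY [0, 0] (by decide)
    simpa [gword, lets, signedVal] using this
  -- a lift of the third generator, shifted
  obtain ⟨T0, hT0⟩ := hsurj ot
  have hR : ∀ T : Γ, σ T = ot → σ (T * T) = 1 ∧ σ (rel11 X Y T) = 1 ∧ σ (rel12 X Y T) = 1 ∧
      σ (relW X Y T) = 1 ∧ σ (T⁻¹ * X⁻¹ * T * X) = 1 := by
    intro T hT
    rw [← pow_two, map_pow, map_rel11, map_rel12, map_relW, map_mul, map_mul, map_mul, map_inv,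
      map_inv, hσX, hσY, hT]
    exact ⟨rels_hold _ (by simp [tRels]), rels_hold _ (by simp [tRels]),
      rels_hold _ (by simp [tRels]), rels_hold _ (by simp [tRels]), rels_hold _ (by simp [tRels])⟩
  obtain ⟨T, hT, hzz⟩ : ∃ T : Γ, σ T = ot ∧ rel11 X Y T = T * T := by
    obtain ⟨h0, h3, -, -, -⟩ := hR T0 hT0
    set ζ : Γ := T0 * T0 * (rel11 X Y T0)⁻¹ with hζdef
    have hζ : σ ζ = 1 := by rw [hζdef, map_mul, map_inv, h0, h3, inv_one, one_mul]
    refine ⟨T0 * ζ, by rw [map_mul, hT0, hζ, mul_one], ?_⟩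
    have hc : ∀ g, g * ζ = ζ * g := fun g => Subgroup.mem_center_iff.1 (hmem hζ) g
    have e2 : T0 * ζ * (T0 * ζ) = T0 * T0 * ζ ^ 2 := by
      rw [mul_assoc, ← mul_assoc ζ, ← hc T0, pow_two]
      simp only [mul_assoc]
    have e3 : rel11 X Y (T0 * ζ) = rel11 X Y T0 * ζ ^ 3 := by
      rw [rel11, rel11, ← (show Commute (Y * ((gword (lets X Y) wU)⁻¹ * T0 * gword (lets X Y) wU)) ζ
        from hc _).mul_pow]
      congr 1
      rw [← mul_assoc _ T0 ζ, mul_assoc (_ * T0) ζ, ← hc (gword (lets X Y) wU)]
      simp only [mul_assoc]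
    have hr : rel11 X Y T0 = ζ⁻¹ * (T0 * T0) := by rw [hζdef]; group
    rw [e2, e3, hr]
    have hz0 : T0 * T0 * ζ = ζ * (T0 * T0) := hc _
    rw [pow_succ', pow_succ' ζ 1, pow_one, ← mul_assoc (ζ⁻¹ * (T0 * T0)), mul_assoc ζ⁻¹, hz0,
      inv_mul_cancel_left]
  obtain ⟨hTT, h11, h12, hrW, hrX⟩ := hR T hT
  set z0 : Γ := T * T with hz0def
  set a : Γ := T⁻¹ * X⁻¹ * T * X with hadef
  set b : Γ := relW X Y T with hbdef
  set z4 : Γ := rel12 X Y T with hz4def
  have hza := hmem hrX
  have hzb := hmem hrW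
  have hz0 := hmem hTT
  have hz4 := hmem h12
  have hXa : X⁻¹ * T * X = T * a := by rw [hadef]; group
  have hWb : (gword (lets X Y) wW)⁻¹ * T * gword (lets X Y) wW = T * b := by
    rw [hbdef, relW]; group
  have hword := conj_cword X Y T a b hza hzb hXa hWb
  have htwo : ∀ (g c : Γ), c ∈ Subgroup.center Γ → g⁻¹ * T * g = T * c → c * c = 1 := by
    intro g c hc hgc
    have h1 : g⁻¹ * z0 * g = z0 * (c * c) := by
      rw [hz0def, show g⁻¹ * (T * T) * g = (g⁻¹ * T * g) * (g⁻¹ * T * g) by group, hgc,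
        mul_assoc T c, ← mul_assoc c, ← Subgroup.mem_center_iff.1 hc T]
      simp only [mul_assoc]
    rwa [mul_assoc, ← Subgroup.mem_center_iff.1 hz0 g, inv_mul_cancel_left, left_eq_mul] at h1
  have ha2 := htwo X a hza hXa
  have hb2 := htwo _ b hzb hWb
  have hpw : ∀ (c : Γ), c * c = 1 → ∀ i : ℕ, c ^ i = c ^ (i % 2) := fun c hc i =>
    pow_eq_pow_mod i (by rw [pow_two, hc])
  have hgeq : ∀ {v w : List ℕ}, (v, w) ∈ eqs → gword (lets X Y) v = gword (lets X Y) w := by
    intro v w h
    rw [← hSw, ← hSw, eq_gl h]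
  have hab : a = b := by
    have h := (hword k1).symm.trans ((congrArg (fun g => g⁻¹ * T * g)
      (hgeq (v := cword k1) (w := cword k2) (by simp [eqs]))).trans (hword k2))
    have h' := mul_left_cancel h
    rw [par, par, hpw a ha2, hpw a ha2 (k2.count false), hpw b hb2, hpw b hb2 (k2.count true)] at h'
    simp [k1, k2] at h'
    calc a = a * (b * b) := by rw [hb2, mul_one]
      _ = a * b * b := (mul_assoc _ _ _).symm
      _ = b := by first | rw [h', one_mul] | rw [← h', one_mul]
  -- the inverting element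
  have hH : (gword (lets X Y) (cword [true, true]))⁻¹ * T * gword (lets X Y) (cword [true, true]) =
      T := by
    rw [hword, par]
    simp [pow_succ, hb2]
  have hwinv : ∀ w, gword (lets X Y) (wInv w) = (gword (lets X Y) w)⁻¹ := fun w =>
    gword_inverse _ _ (fun x => lets_iv X Y x) w
  have hG : gword (lets X Y) wG = (gword (lets X Y) wU)⁻¹ * gword (lets X Y) (cword [true, true]) *
      gword (lets X Y) wU := by
    rw [wG, gword_append, gword_append, hwinv]
  have hzsq : z0 ^ 2 = z0 ^ 3 := by
    refine inverted (y := Y) (t := (gword (lets X Y) wU)⁻¹ * T * gword (lets X Y) wU)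
      (g := gword (lets X Y) wG) ?_ hz0 hz0 hzz ?_ ?_
    · rw [show ∀ U : Γ, U⁻¹ * T * U * (U⁻¹ * T * U) = U⁻¹ * (T * T) * U by intros; group,
        mul_assoc, ← Subgroup.mem_center_iff.1 hz0, inv_mul_cancel_left]
    · have h := hgeq (v := wInv wG ++ [2] ++ wG) (w := [3]) (by simp [eqs])
      rw [gword_append, gword_append, hwinv] at h
      simpa [gword, lets, signedVal] using h
    · rw [hG, show ∀ U H : Γ, (U⁻¹ * H * U)⁻¹ * (U⁻¹ * T * U) * (U⁻¹ * H * U) =
        U⁻¹ * (H⁻¹ * T * H) * U by intros; group, hH]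
  have hz01 : z0 = 1 := by
    rwa [pow_succ z0 2, left_eq_mul] at hzsq
  -- the last relator has order at most four
  have hV2 : conjV X Y T * conjV X Y T = 1 := by
    rw [conjV, show ∀ V : Γ, V⁻¹ * T * V * (V⁻¹ * T * V) = V⁻¹ * (T * T) * V by intros; group,
      ← hz0def, hz01, mul_one, inv_mul_cancel]
  have hA4 : (gword (lets X Y) wA * T) ^ 4 = 1 := by
    have h1 : (gword (lets X Y) wA)⁻¹ * T * gword (lets X Y) wA = T * par a b kA := by
      rw [hgeq (v := wA) (w := cword kA) (by simp [eqs])]
      exact hword kA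
    have h4 : gword (lets X Y) wA * gword (lets X Y) wA * gword (lets X Y) wA *
        gword (lets X Y) wA = 1 := by
      have h := hgeq (v := wA ++ wA ++ wA ++ wA) (w := []) (by simp [eqs])
      rwa [gword_append, gword_append, gword_append] at h
    set A : Γ := gword (lets X Y) wA with hAdef
    set c : Γ := par a b kA with hcdef
    have hc : c ∈ Subgroup.center Γ := mul_mem (pow_mem hza _) (pow_mem hzb _)
    have hcc := htwo A c hc h1
    have e : A * T * (A * T) = A * A * c := by
      rw [show A * T * (A * T) = A * A * (A⁻¹ * T * A) * T by group, h1, mul_assoc (A * A),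
        mul_assoc T, ← Subgroup.mem_center_iff.1 hc T, ← mul_assoc T, ← hz0def, hz01, one_mul]
    have hcA : Commute (A * A) c := Subgroup.mem_center_iff.1 hc _
    rw [show 4 = 2 * 2 from rfl, pow_mul, pow_two (A * T), e, hcA.mul_pow, pow_two c, hcc, mul_one,
      pow_two, ← mul_assoc, h4]
  have hz44 : z4 ^ 4 = 1 := by
    have h := dihedral (p := prodH X Y T) (r := conjV X Y T) (z := z4) (ζ := 1) (n := 4) hV2
      (pow_two _).symm hz4 (one_mem _) (by
        rw [show prodH X Y T * conjV X Y T = gword (lets X Y) wA * T by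
          rw [prodH, mul_assoc, hV2, mul_one], hA4])
    rwa [one_pow] at h
  -- the kernel is generated by two values
  let Z0 : Subgroup Γ := Subgroup.closure {a, z4}
  have hZ0 : Z0 ≤ σ.ker := by
    rw [Subgroup.closure_le]
    rintro g (rfl | rfl)
    exacts [hrX, h12]
  haveI : Z0.Normal := ⟨fun g hg k => by
    rwa [Subgroup.mem_center_iff.1 (hcen (hZ0 hg)) k, mul_inv_cancel_right]⟩
  obtain ⟨ψ, hψx, hψy, hψt⟩ := exists_hom (QuotientGroup.mk' Z0 X) (QuotientGroup.mk' Z0 Y)
    (QuotientGroup.mk' Z0 T) (fun w hw => by rw [← map_gword_lets, hXY w hw, map_one]) (by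
      rw [← map_tRels]
      intro r hr
      obtain ⟨q, hq, rfl⟩ := List.mem_map.1 hr
      rw [QuotientGroup.mk'_apply, QuotientGroup.eq_one_iff]
      simp only [tRels, List.mem_cons, List.not_mem_nil, or_false] at hq
      rcases hq with rfl | rfl | rfl | rfl | rfl
      · rw [pow_two, ← hz0def, hz01]; exact one_mem _
      · rw [← hbdef, ← hab]; exact Subgroup.subset_closure (Or.inl rfl)
      · rw [← hadef]; exact Subgroup.subset_closure (Or.inl rfl)
      · rw [hzz, hz01]; exact one_mem _
      · rw [← hz4def]; exact Subgroup.subset_closure (Or.inr rfl))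
  let L : Subgroup Γ := Subgroup.closure {X, Y, T}
  have hLmap : L.map σ = ⊤ := by
    rw [MonoidHom.map_closure, eq_top_iff, ← PresentedGroup.closure_range_of, Subgroup.closure_le]
    rintro _ ⟨g, rfl⟩
    cases g
    exacts [Subgroup.subset_closure ⟨X, by simp, hσX⟩, Subgroup.subset_closure ⟨Y, by simp, hσY⟩,
      Subgroup.subset_closure ⟨T, by simp, hT⟩]
  have hdec : ∀ g : Γ, ∃ l ∈ L, ∃ k ∈ σ.ker, g = l * k := by
    intro g
    obtain ⟨l, hl, hl'⟩ : σ g ∈ L.map σ := by rw [hLmap]; exact Subgroup.mem_top _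
    exact ⟨l, hl, l⁻¹ * g, by rw [MonoidHom.mem_ker, map_mul, map_inv, hl', inv_mul_cancel],
      by group⟩
  have hgammaperf : commutator Γ = ⊤ := by
    refine eq_top_iff.2 fun g _ => ?_
    have h : σ g ∈ (commutator Γ).map σ := by
      rw [commutator_def, Subgroup.map_commutator, Subgroup.map_top_of_surjective σ hsurj,
        ← commutator_def, J4_perfect]
      exact Subgroup.mem_top _
    obtain ⟨c, hc, hc'⟩ := h
    have hk : c⁻¹ * g ∈ σ.ker := by rw [MonoidHom.mem_ker, map_mul, map_inv, hc', inv_mul_cancel]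
    simpa using mul_mem hc (hcomm hk)
  have hLtop : L = ⊤ := by
    refine eq_top_iff.2 (le_trans hgammaperf.ge ?_)
    rw [commutator_def, Subgroup.commutator_le]
    intro g _ h _
    obtain ⟨l, hl, k, hk, rfl⟩ := hdec g
    obtain ⟨l', hl', k', hk', rfl⟩ := hdec h
    have e1 : ∀ x : Γ, x * k = k * x := Subgroup.mem_center_iff.1 (hcen hk)
    have e2 : ∀ x : Γ, x * k' = k' * x := Subgroup.mem_center_iff.1 (hcen hk')
    have : ⁅l * k, l' * k'⁆ = ⁅l, l'⁆ := by
      rw [commutatorElement_def, commutatorElement_def, mul_inv_rev, mul_inv_rev]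
      calc l * k * (l' * k') * (k⁻¹ * l⁻¹) * (k'⁻¹ * l'⁻¹)
          = l * (k * l') * (k' * k⁻¹) * l⁻¹ * (k'⁻¹ * l'⁻¹) := by group
        _ = l * (l' * k) * (k⁻¹ * k') * l⁻¹ * (k'⁻¹ * l'⁻¹) := by rw [← e1 l', ← e2 k⁻¹]
        _ = l * l' * (k' * l⁻¹) * (k'⁻¹ * l'⁻¹) := by group
        _ = l * l' * (l⁻¹ * k') * (k'⁻¹ * l'⁻¹) := by rw [← e2 l⁻¹]
        _ = l * l' * l⁻¹ * l'⁻¹ := by group
    rw [this, commutatorElement_def]
    exact mul_mem (mul_mem (mul_mem hl hl') (inv_mem hl)) (inv_mem hl')
  have hψ : ∀ g, ψ (σ g) = QuotientGroup.mk' Z0 g := by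
    intro g
    have hg : g ∈ L := by rw [hLtop]; exact Subgroup.mem_top g
    refine MonoidHom.eqOn_closure (f := ψ.comp σ) (g := QuotientGroup.mk' Z0) ?_ hg
    rintro x (rfl | rfl | rfl)
    · rw [MonoidHom.comp_apply, hσX, hψx]
    · rw [MonoidHom.comp_apply, hσY, hψy]
    · rw [MonoidHom.comp_apply, hT, hψt]
  have hkerZ : σ.ker ≤ Z0 := by
    intro g hg
    rw [← QuotientGroup.eq_one_iff (N := Z0), ← QuotientGroup.mk'_apply, ← hψ, hg, map_one]
  have h4 : ∀ ζ ∈ σ.ker, ζ ^ 4 = 1 := by
    intro ζ hζ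
    have hmem4 := hkerZ hζ
    induction hmem4 using Subgroup.closure_induction with
    | mem g hg =>
      rcases hg with rfl | rfl
      · rw [show 4 = 2 * 2 from rfl, pow_mul, pow_two a, ha2, one_pow]
      · exact hz44
    | one => exact one_pow 4
    | mul g k hg hk ihg ihk =>
      rw [(show Commute g k from Subgroup.mem_center_iff.1 (hcen (hZ0 hk)) g).mul_pow,
        ihg (hZ0 hg), ihk (hZ0 hk), one_mul]
    | inv g hg ihg => rw [inv_pow, ihg (hZ0 hg), inv_one]
  -- both values are squares
  have hsq : ∀ ζ ∈ σ.ker, ∃ η ∈ σ.ker, η ^ 2 = ζ := by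
    have sa : ∃ η ∈ σ.ker, η ^ 2 = a := by
      set r : Γ := (gword (lets X Y) [3, 0, 3])⁻¹ * X * gword (lets X Y) [3, 0, 3] with hrdef
      have hr : r * r = 1 := by
        rw [hrdef, show ∀ K : Γ, K⁻¹ * X * K * (K⁻¹ * X * K) = K⁻¹ * (X * X) * K by intros; group,
          hXX, mul_one, inv_mul_cancel]
      have hp : T * X * (T * X) = a := by
        have hXi : X⁻¹ = X := inv_eq_of_mul_eq_one_right hXX
        rw [show T * X * (T * X) = T * (X * T * X) by group,
          show X * T * X = T * a by rw [← hXa, hXi], ← mul_assoc, ← hz0def, hz01, one_mul]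
      have hm : (T * X * r) ^ 31 ∈ σ.ker := by
        rw [MonoidHom.mem_ker, map_pow, map_mul, map_mul, hrdef, map_mul, map_mul, map_inv, hσw,
          hσX, hT]
        exact hI.1
      have h := dihedral hr hp hza (hcen hm) rfl
      refine ⟨_, hm, h.symm.trans ?_⟩
      rw [hpw a ha2, show 31 % 2 = 1 from rfl, pow_one]
    have sz : ∃ η ∈ σ.ker, η ^ 2 = z4 := by
      set r : Γ := (conjK X Y T)⁻¹ * X * conjK X Y T with hrdef
      have hr : r * r = 1 := by
        rw [hrdef, show ∀ K : Γ, K⁻¹ * X * K * (K⁻¹ * X * K) = K⁻¹ * (X * X) * K by intros; group,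
          hXX, mul_one, inv_mul_cancel]
      have hm : (prodH X Y T * r) ^ 5 ∈ σ.ker := by
        rw [MonoidHom.mem_ker, map_pow, map_mul, map_prodH, hrdef, map_mul, map_mul, map_inv,
          map_conjK, hσX, hσY, hT]
        exact hI.2
      have h := dihedral hr (pow_two _).symm hz4 (hcen hm) rfl
      refine ⟨_, hm, h.symm.trans ?_⟩
      show z4 ^ 5 = z4
      rw [pow_succ, hz44, one_mul]
    intro ζ hζ
    have hmem2 := hkerZ hζ
    clear hζ
    induction hmem2 using Subgroup.closure_induction with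
    | mem g hg =>
      rcases hg with rfl | rfl
      exacts [sa, sz]
    | one => exact ⟨1, one_mem _, one_pow 2⟩
    | mul g k _ _ ihg ihk =>
      obtain ⟨η, hη, rfl⟩ := ihg
      obtain ⟨θ, hθ, rfl⟩ := ihk
      exact ⟨η * θ, mul_mem hη hθ,
        (show Commute η θ from Subgroup.mem_center_iff.1 (hcen hθ) η).mul_pow 2⟩
    | inv g _ ihg =>
      obtain ⟨η, hη, rfl⟩ := ihg
      exact ⟨η⁻¹, inv_mem hη, inv_pow η 2⟩
  rw [Subgroup.eq_bot_iff_forall]
  intro ζ hζ
  obtain ⟨η, hη, rfl⟩ := hsq ζ hζ
  obtain ⟨θ, hθ, rfl⟩ := hsq η hη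
  rw [← pow_mul]
  exact h4 θ hθ


theorem multiplier_of [Finite Spor.J4] (hI : Identities) :
    HasCyclicSchurMultiplier Spor.J4 1 :=
  CfsgLib.SchurMult.hasCyclicSchurMultiplier_one_iff.2 fun _ _ _ σ hσ => ker_eq_bot hI σ hσ

end CfsgLib.J4Mult
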